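import Mathlib

set_option autoImplicit false

/-!
Element orders of alternating groups through cycle types.
-/

namespace CfsgLib.AltOrders

open Equiv

/-- `m` is an element order of `A_n` iff it is the lcm of an even cycle type of size at most `n`. -/
theorem mem_range_orderOf_iff (n m : ℕ) :
    m ∈ Set.range (orderOf : alternatingGroup (Fin n) → ℕ) ↔
      ∃ c : Multiset ℕ, c.sum ≤ n ∧ (∀ a ∈ c, 2 ≤ a) ∧ Even (c.sum + Multiset.card c) ∧ c.lcm = m := by
  constructor
  · rintro ⟨⟨σ, hσ⟩, rfl⟩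
    refine ⟨σ.cycleType, ?_, fun a ha => Perm.two_le_of_mem_cycleType ha, ?_, ?_⟩
    · rw [Perm.sum_cycleType]
      exact (Finset.card_le_univ _).trans_eq (Fintype.card_fin n)
    · have h := Perm.sign_of_cycleType σ
      rw [Perm.mem_alternatingGroup.1 hσ] at h
      by_contra hodd
      rw [(Nat.not_even_iff_odd.1 hodd).neg_one_pow] at h
      exact absurd h (by decide)
    · rw [Perm.lcm_cycleType]
      exact (Subgroup.orderOf_coe ⟨σ, hσ⟩)
  · rintro ⟨c, h1, h2, h3, h4⟩
    obtain ⟨σ, hσ⟩ := (Perm.exists_with_cycleType_iff (α := Fin n)).2 ⟨by simpa using h1, h2⟩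
    have hmem : σ ∈ alternatingGroup (Fin n) := by
      rw [Perm.mem_alternatingGroup, Perm.sign_of_cycleType, hσ, h3.neg_one_pow]
    refine ⟨⟨σ, hmem⟩, ?_⟩
    rw [← Subgroup.orderOf_coe]
    simp only
    rw [← Perm.lcm_cycleType, hσ, h4]

/-- The pairs (lcm, parity of the type) realised by cycle types of total size at most `n`. -/
def types : ℕ → Finset (ℕ × ℕ)
  | 0 => {(1, 0)}
  | n + 1 =>
    insert (1, 0) ((Finset.range n).attach.biUnion fun k =>
      (types (n - 1 - k.1)).image fun x => (Nat.lcm (k.1 + 2) x.1, (k.1 + 3 + x.2) % 2))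
decreasing_by omega

theorem mem_types (c : Multiset ℕ) : ∀ n : ℕ, c.sum ≤ n → (∀ a ∈ c, 2 ≤ a) →
    (c.lcm, (c.sum + Multiset.card c) % 2) ∈ types n := by
  induction c using Multiset.induction with
  | empty =>
    intro n _ _
    cases n <;> unfold types <;> simp
  | cons a c ih =>
    intro n hn hc
    rw [Multiset.sum_cons] at hn
    have ha : 2 ≤ a := hc a (Multiset.mem_cons_self a c)
    obtain ⟨m, rfl⟩ : ∃ m, n = m + 1 := ⟨n - 1, by omega⟩
    obtain ⟨k, rfl⟩ : ∃ k, a = k + 2 := ⟨a - 2, by omega⟩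
    unfold types
    refine Finset.mem_insert_of_mem (Finset.mem_biUnion.2 ⟨⟨k, Finset.mem_range.2 (by omega)⟩, Finset.mem_attach _ _, ?_⟩)
    refine Finset.mem_image.2 ⟨_, ih (m - 1 - k) (by omega) (fun b hb => hc b (Multiset.mem_cons_of_mem hb)), ?_⟩
    simp only [Multiset.lcm_cons, Multiset.sum_cons, Multiset.card_cons, Prod.mk.injEq]
    exact ⟨rfl, by omega⟩

end CfsgLib.AltOrders
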